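import Cfsg.Agent.H545.Rs.Conv
import Cfsg.Agent.H2.Rb.Nineteen

/-!
# S3691: `q = 2`, dimension 18, the prime 19, coordinate free (helper545)
-/

set_option autoImplicit false

namespace Cfsg.Agent.H545.Rs

open Module Cfsg Cfsg.Agent.H449.Reg Cfsg.Agent.H925.Rs

universe v w

variable {F : Type v} [Field F] [Fintype F] {V : Type w} [AddCommGroup V] [Module F V] [FiniteDimensional F V]
  {B : LinearMap.BilinForm F V} {A : Subgroup (V ≃ₗ[F] V)}

theorem small19_abs (hKS : ∀ (T : Type v) [Group T] [Finite T] [IsSimpleGroup T], IsKnownSimple' T)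
    (hF : Nat.card F = 2) (hdim : finrank F V = 18) (hB : ∀ x, B x x = 0) (hnd : ∀ x, (∀ y, B x y = 0) → x = 0)
    (hA : A ≤ Isos B) (hne : ¬ Isos B ≤ A) (hd : 19 ∣ Nat.card A) (hred : ¬ RedG A) :
    (∃ s, s.Prime ∧ AExt s A) ∨ OmE B A ∨ ¬ 73 ∣ Nat.card A := by
  have h2 : (2 : F) = 0 := by
    have h5 : ((Nat.card F : ℕ) : F) = 0 := by
      rw [Nat.card_eq_fintype_card]
      exact Nat.cast_card_eq_zero F
    rw [hF] at h5
    exact_mod_cast h5
  let φ : V ≃ₗ[F] (Fin 18 → F) := LinearEquiv.ofFinrankEq _ _ (by rw [Module.finrank_fintype_fun_eq_card, Fintype.card_fin, hdim])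
  have hc : Nat.card (A.map (cj φ).toMonoidHom) = Nat.card A :=
    (Nat.card_congr (A.equivMapOfInjective _ (cj φ).injective).toEquiv).symm
  have h := H2.Rb.small19 hKS hF (A.map (cj φ).toMonoidHom) (by rwa [hc]) (irr_of φ hred)
  rw [hc] at h
  exact conv φ (by norm_num) h2 hB hnd hA hne h

end Cfsg.Agent.H545.Rs
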