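import Cfsg.Agent.H925.Rs.Fct

/-!
# S3691: from the clauses on `F ^ n` to the coordinate free clauses (helper545)

* `conv` : characteristic two, a subgroup of the isometry group of the alternating form `B`, not the whole group: the
  clauses (field extension, `SL`, `Sp`, `SU`, `Ω`) on coordinates give `AExt` or `OmE`
* `irr_of` : irreducibility in coordinates
-/

set_option autoImplicit false
set_option linter.unusedSectionVars false

namespace Cfsg.Agent.H545.Rs

open Module QuadraticMap Cfsg Cfsg.Geo Matrix Cfsg.Agent.LieClassical.OrthCore Cfsg.Agent.LieClassical.OrthTrans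
  Cfsg.Agent.H955 Cfsg.Agent.H954.TSing Cfsg.Agent.H884.El Cfsg.Agent.H449.Reg
  Cfsg.Agent.H929 Cfsg.Agent.H873 Cfsg.Agent.H89.Cov
open Cfsg.Agent.H925.Rs Cfsg.Agent.H128.Rg
open scoped MatrixGroups

universe v w

variable {F : Type v} [Field F] [Fintype F] {V : Type w} [AddCommGroup V] [Module F V] [FiniteDimensional F V]
  {B : LinearMap.BilinForm F V} {A : Subgroup (V ≃ₗ[F] V)}

theorem conv {n : ℕ} (φ : V ≃ₗ[F] (Fin n → F)) (h5 : 5 ≤ n) (h2 : (2 : F) = 0) (hB : ∀ x, B x x = 0)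
    (hnd : ∀ x, (∀ y, B x y = 0) → x = 0) (hA : A ≤ Isos B) (hne : ¬ Isos B ≤ A) {X : Prop}
    (h : (∃ (s : ℕ) (E : Subalgebra F (Matrix (Fin n) (Fin n) F)), s.Prime ∧ s ∣ n ∧ IsFieldSubalgebra s E ∧
        A.map (cj φ).toMonoidHom ≤ subalgebraNormalizer E) ∨
      specialLinear (Fin n) F ≤ A.map (cj φ).toMonoidHom ∨
      (∃ f : (Fin n → F) → (Fin n → F) → F, IsSymplecticForm f ∧
        ∀ x : GL (Fin n) F, FixesForm {(x : Matrix (Fin n) (Fin n) F)} f → x ∈ A.map (cj φ).toMonoidHom) ∨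
      (∃ (τ : F ≃+* F) (f : (Fin n → F) → (Fin n → F) → F), IsUnitaryForm τ f ∧
        ∀ x : GL (Fin n) F, FixesForm {(x : Matrix (Fin n) (Fin n) F)} f →
          Matrix.GeneralLinearGroup.det x = 1 → x ∈ A.map (cj φ).toMonoidHom) ∨
      (∃ Q : (Fin n → F) → F, IsNondegenerateQuadraticForm Q ∧ omegaGL Q ≤ A.map (cj φ).toMonoidHom) ∨ X) :
    (∃ s, s.Prime ∧ AExt s A) ∨ OmE B A ∨ X := by
  classical
  have hone : Nonempty (Fin n) := ⟨⟨0, by omega⟩⟩
  obtain ⟨Q, hQB⟩ := exists_quad (B := B) h2 hB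
  have hQ : Nondeg Q := by
    intro x hx
    exact hnd x fun y => by rw [← hQB]; exact hx y
  have hQ' := nondeg_tq hQ φ
  have hQ'' := H884.OddForm.isNondegenerate_of_nondeg _ hQ'
  have hS := symp_polar h2 hQ''
  have hpres : ∀ h : V ≃ₗ[F] V, h ∈ Isos B ↔
      ∀ u v, polar (⇑(tq Q φ)) ((cj φ h : Matrix (Fin n) (Fin n) F) *ᵥ u) ((cj φ h : Matrix (Fin n) (Fin n) F) *ᵥ v) =
        polar (⇑(tq Q φ)) u v := by
    intro h
    constructor
    · intro hh u v
      rw [polar_tq, polar_tq, cj_apply, cj_apply, φ.symm_apply_apply, φ.symm_apply_apply, hQB, hQB]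
      exact hh _ _
    · intro hh u v
      have h1 := hh (φ u) (φ v)
      rw [polar_tq, polar_tq, cj_apply', cj_apply', φ.symm_apply_apply, φ.symm_apply_apply, φ.symm_apply_apply,
        φ.symm_apply_apply, hQB, hQB] at h1
      exact h1
  have hmem : ∀ x ∈ A.map (cj φ).toMonoidHom, ∀ u v,
      polar (⇑(tq Q φ)) ((x : Matrix (Fin n) (Fin n) F) *ᵥ u) ((x : Matrix (Fin n) (Fin n) F) *ᵥ v) =
        polar (⇑(tq Q φ)) u v := by
    rintro _ ⟨x, hx, rfl⟩
    exact (hpres x).1 (hA hx)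
  rcases h with ⟨s, E, hs, -, hE, hle⟩ | h | ⟨f', hf', h⟩ | ⟨τ, f', hf', h⟩ | ⟨Q₁, hQ₁, h⟩ | h
  · exact Or.inl ⟨s, hs, n, φ, E, hs, hE, hle⟩
  · exfalso
    refine H905.not_sl_le_similarityGroup_symplectic (by rw [Fintype.card_fin]; omega) hS fun x hx => ?_
    exact ⟨1, fun u v => by rw [Units.val_one, one_mul]; exact hmem x (h hx) u v⟩
  · exfalso
    obtain ⟨c, hc0, hc⟩ := symp_prop hf' hS fun x hx => fixesForm_singleton.2 (hmem x (h x hx))
    apply hne
    intro x hx
    obtain ⟨y, hy, hyx⟩ := h (cj φ x) (by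
      rw [fixesForm_singleton]
      intro u v
      have h1 := (hpres x).1 hx u v
      rw [hc, hc] at h1
      exact mul_left_cancel₀ hc0 h1)
    have : y = x := (cj φ).injective hyx
    rw [← this]
    exact hy
  · exact (unit_symp_false (by rw [Fintype.card_fin]; omega) hS hf' fun x hx hd =>
      fixesForm_singleton.2 (hmem x (h x hx hd))).elim
  · right; left
    have h1 : FixesForm (matrixSet (omegaGL Q₁)) (polar (⇑(tq Q φ))) := by
      rintro _ ⟨x, hx, rfl⟩ u v
      exact hmem x (h hx) u v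
    have h3 : FixesForm (matrixSet (omegaGL Q₁)) (polar Q₁) := H914.fixesForm_polar (H925.Nat.omegaGL_fixes Q₁)
    obtain ⟨c, hc⟩ := H920.form_unique (H925.Nat.omegaGL_absIrr hQ₁ (by rw [Fintype.card_fin]; omega)) hQ₁.polar_bilinear
      hQ₁.nondegenerate h3 hQ''.polar_bilinear h1
    have hc0 : c ≠ 0 := by
      rintro rfl
      obtain ⟨i⟩ := hone
      have hne : (Pi.single i 1 : Fin n → F) ≠ 0 := by
        intro h0
        have := congrFun h0 i
        simp at this
      obtain ⟨⟨x, hx⟩, -⟩ := hQ''.nondegenerate _ hne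
      exact hx (by rw [hc, zero_mul])
    have hp : ∀ u v, polar (fun v => c * Q₁ v) u v = c * polar Q₁ u v := by
      intro u v
      simp only [polar]
      ring
    have hQ₂ : IsNondegenerateQuadraticForm (fun v => c * Q₁ v) := by
      refine ⟨fun a v => by rw [hQ₁.smul]; ring, ⟨?_, ?_, ?_, ?_⟩, ?_⟩
      · intro x y v
        rw [hp, hp, hp, hQ₁.polar_bilinear.add_left]; ring
      · intro a x v
        rw [hp, hp, hQ₁.polar_bilinear.smul_left]; ring
      · intro v x y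
        rw [hp, hp, hp, hQ₁.polar_bilinear.add_right]; ring
      · intro a v x
        rw [hp, hp, hQ₁.polar_bilinear.smul_right]; ring
      · intro v hv
        obtain ⟨⟨x, hx⟩, ⟨y, hy⟩⟩ := hQ₁.nondegenerate v hv
        exact ⟨⟨x, by rw [hp]; exact mul_ne_zero hc0 hx⟩, ⟨y, by rw [hp]; exact mul_ne_zero hc0 hy⟩⟩
    have hp₂ : ∀ u v, polar (fun v => c * Q₁ v) u v = polar (⇑(tq Q φ)) u v := fun u v => by rw [hp, hc]
    have hle : omegaGL (fun v => c * Q₁ v) ≤ A.map (cj φ).toMonoidHom := by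
      rw [H925.Nat.omegaGL_smul hc0 fun v => rfl]
      exact h
    let Q₃ : QuadraticForm F V := (H884.OmegaGL.bundle _ hQ₂).comp (φ : V →ₗ[F] (Fin n → F))
    have hq : (⇑(tq Q₃ φ) : (Fin n → F) → F) = fun v => c * Q₁ v := by
      funext v
      change c * Q₁ (φ (φ.symm v)) = c * Q₁ v
      rw [φ.apply_symm_apply]
    have hp3 : ∀ u v, polar Q₃ u v = B u v := by
      intro u v
      have h1 := hp₂ (φ u) (φ v)
      have e1 : polar Q₃ u v = polar (fun v => c * Q₁ v) (φ u) (φ v) := by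
        change c * Q₁ (φ (u + v)) - c * Q₁ (φ u) - c * Q₁ (φ v) = c * Q₁ (φ u + φ v) - c * Q₁ (φ u) - c * Q₁ (φ v)
        rw [map_add]
      rw [e1, h1, polar_tq, φ.symm_apply_apply, φ.symm_apply_apply, hQB]
    exact ⟨h2, Q₃, hp3, E_le_of φ (by rw [Fintype.card_fin]; omega) (by rw [hq]; exact hQ₂) (by rw [hq]; exact hle)⟩
  · exact Or.inr (Or.inr h)

/-- irreducibility in coordinates -/
theorem irr_of {n : ℕ} (φ : V ≃ₗ[F] (Fin n → F)) (hred : ¬ RedG A) :
    ActsIrreducibly (matrixSet (A.map (cj φ).toMonoidHom)) := by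
  intro W hW
  rcases irr_of_not hred (W.comap (φ : V →ₗ[F] (Fin n → F))) (by
    intro h hh w hw
    have h1 : (cj φ h : Matrix (Fin n) (Fin n) F) *ᵥ φ w ∈ W := by
      have h2 := hW (cj φ h : Matrix (Fin n) (Fin n) F) ⟨cj φ h, ⟨h, hh, rfl⟩, rfl⟩
      have h3 := h2 (Submodule.mem_map_of_mem (show φ w ∈ W from hw))
      rwa [Matrix.toLin'_apply] at h3
    rw [cj_apply'] at h1
    exact h1) with h | h
  · left
    rw [Submodule.eq_bot_iff]
    intro w hw
    have : φ.symm w ∈ W.comap (φ : V →ₗ[F] (Fin n → F)) := by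
      change φ (φ.symm w) ∈ W
      rwa [φ.apply_symm_apply]
    rw [h, Submodule.mem_bot] at this
    rw [← φ.apply_symm_apply w, this, map_zero]
  · right
    rw [eq_top_iff]
    intro w _
    have : φ.symm w ∈ W.comap (φ : V →ₗ[F] (Fin n → F)) := by rw [h]; trivial
    have h1 : φ (φ.symm w) ∈ W := this
    rwa [φ.apply_symm_apply] at h1

theorem card_map (φ : V ≃ₗ[F] (Fin (finrank F V) → F)) : Nat.card (A.map (cj φ).toMonoidHom) = Nat.card A :=
  (Nat.card_congr (A.equivMapOfInjective _ (cj φ).injective).toEquiv).symm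

end Cfsg.Agent.H545.Rs
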